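import Cfsg.Agent.Helper29.OC2E.Defs
import Cfsg.Agent.Helper29.OC2E.CMP1
import Cfsg.Agent.Helper29.OC2E.CMP2

set_option autoImplicit false
set_option linter.unusedSectionVars false
set_option linter.unusedVariables false

/-! # S5677, piece SWAP: block swaps from the isometries `D b ≃ D b'`. -/

namespace Cfsg.Agent.OC2E

open Matrix Cfsg.Agent.Helper28.Sg Cfsg.Agent.Helper28.Spin Cfsg.Agent.Helper12.OrthGen
  Cfsg.Agent.S2614 Cfsg.Agent.S5683P Cfsg.Agent.Helper28.NDM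

variable {F : Type*} [Field F] {t k : ℕ} {ι : Type} [Fintype ι] [DecidableEq ι] {Q : QuadraticForm F (ι → F)} [QHyp Q] {D : Fin t → Submodule F (ι → F)}

namespace SWAP

/-- the projection onto `D c`, as a map into the subspace -/
noncomputable def prj (hD : HD Q k D) (c : Fin t) : (ι → F) →ₗ[F] D c :=
  LinearMap.codRestrict (D c) (cmp D c) (CMP1.mem hD c)

theorem prj_coe (hD : HD Q k D) (c : Fin t) (x : ι → F) :
    ((prj hD c x : D c) : ι → F) = cmp D c x := rfl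

/-- the swap map `x ↦ x - x_b - x_b' + φ x_b + φ⁻¹ x_b'` -/
noncomputable def swapL (hD : HD Q k D) (b b' : Fin t) (φ : D b ≃ₗ[F] D b') :
    (ι → F) →ₗ[F] (ι → F) :=
  LinearMap.id - cmp D b - cmp D b' + (D b').subtype ∘ₗ φ.toLinearMap ∘ₗ prj hD b
    + (D b).subtype ∘ₗ φ.symm.toLinearMap ∘ₗ prj hD b'

theorem swapL_apply (hD : HD Q k D) (b b' : Fin t) (φ : D b ≃ₗ[F] D b') (x : ι → F) :
    swapL hD b b' φ x = x - cmp D b x - cmp D b' x + ((φ (prj hD b x) : D b') : ι → F)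
      + ((φ.symm (prj hD b' x) : D b) : ι → F) := rfl

theorem swapL_of_mem_b (hD : HD Q k D) {b b' : Fin t} (hbb' : b ≠ b') (φ : D b ≃ₗ[F] D b')
    {x : ι → F} (hx : x ∈ D b) :
    swapL hD b b' φ x = ((φ ⟨x, hx⟩ : D b') : ι → F) := by
  have h1 : prj hD b x = ⟨x, hx⟩ := Subtype.ext (by rw [prj_coe, CMP1.of_mem hD hx])
  have h2 : prj hD b' x = 0 := Subtype.ext (by
    rw [prj_coe, CMP1.of_mem_ne hD hbb' hx]; rfl)
  rw [swapL_apply, h1, h2, CMP1.of_mem hD hx, CMP1.of_mem_ne hD hbb' hx, map_zero]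
  simp

theorem swapL_of_mem_b' (hD : HD Q k D) {b b' : Fin t} (hbb' : b ≠ b') (φ : D b ≃ₗ[F] D b')
    {x : ι → F} (hx : x ∈ D b') :
    swapL hD b b' φ x = ((φ.symm ⟨x, hx⟩ : D b) : ι → F) := by
  have h1 : prj hD b' x = ⟨x, hx⟩ := Subtype.ext (by rw [prj_coe, CMP1.of_mem hD hx])
  have h2 : prj hD b x = 0 := Subtype.ext (by
    rw [prj_coe, CMP1.of_mem_ne hD hbb'.symm hx]; rfl)
  rw [swapL_apply, h1, h2, CMP1.of_mem hD hx, CMP1.of_mem_ne hD hbb'.symm hx, map_zero]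
  simp

theorem swapL_of_mem_other (hD : HD Q k D) {b b' i : Fin t} (hib : i ≠ b) (hib' : i ≠ b')
    (φ : D b ≃ₗ[F] D b') {x : ι → F} (hx : x ∈ D i) : swapL hD b b' φ x = x := by
  have h1 : prj hD b x = 0 := Subtype.ext (by
    rw [prj_coe, CMP1.of_mem_ne hD hib hx]; rfl)
  have h2 : prj hD b' x = 0 := Subtype.ext (by
    rw [prj_coe, CMP1.of_mem_ne hD hib' hx]; rfl)
  rw [swapL_apply, h1, h2, CMP1.of_mem_ne hD hib hx, CMP1.of_mem_ne hD hib' hx, map_zero,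
    map_zero]
  simp

/-- on each block the swap map is an isometry into the swapped block -/
theorem swapL_block (hD : HD Q k D) {b b' : Fin t} (hbb' : b ≠ b') (φ : D b ≃ₗ[F] D b')
    (hφ : ∀ w : D b, Q ((φ w : D b') : ι → F) = Q (w : ι → F))
    (i : Fin t) {x : ι → F} (hx : x ∈ D i) :
    swapL hD b b' φ x ∈ D (Equiv.swap b b' i) ∧
      Q (swapL hD b b' φ x) = Q x ∧
      swapL hD b b' φ (swapL hD b b' φ x) = x := by
  by_cases hib : i = b
  · subst hib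
    rw [Equiv.swap_apply_left, swapL_of_mem_b hD hbb' φ hx]
    refine ⟨(φ ⟨x, hx⟩).2, hφ ⟨x, hx⟩, ?_⟩
    rw [swapL_of_mem_b' hD hbb' φ (φ ⟨x, hx⟩).2]
    simp
  by_cases hib' : i = b'
  · subst hib'
    rw [Equiv.swap_apply_right, swapL_of_mem_b' hD hbb' φ hx]
    refine ⟨(φ.symm ⟨x, hx⟩).2, ?_, ?_⟩
    · have := hφ (φ.symm ⟨x, hx⟩)
      rw [LinearEquiv.apply_symm_apply] at this
      exact this.symm
    · rw [swapL_of_mem_b hD hbb' φ (φ.symm ⟨x, hx⟩).2]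
      simp
  · rw [Equiv.swap_apply_of_ne_of_ne hib hib', swapL_of_mem_other hD hib hib' φ hx]
    exact ⟨hx, rfl, swapL_of_mem_other hD hib hib' φ hx⟩

theorem swapL_invol (hD : HD Q k D) {b b' : Fin t} (hbb' : b ≠ b') (φ : D b ≃ₗ[F] D b')
    (hφ : ∀ w : D b, Q ((φ w : D b') : ι → F) = Q (w : ι → F))
    (x : ι → F) : swapL hD b b' φ (swapL hD b b' φ x) = x := by
  conv_lhs => rw [← CMP1.sum hD x]
  rw [map_sum, map_sum]
  conv_rhs => rw [← CMP1.sum hD x]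
  apply Finset.sum_congr rfl
  intro c _
  exact (swapL_block hD hbb' φ hφ c (CMP1.mem hD c x)).2.2

/-- `Q` is additive on families with one vector in each block -/
theorem Q_sum_of_mem (hD : HD Q k D) (y : Fin t → ι → F) (hy : ∀ c, y c ∈ D c) :
    Q (∑ c, y c) = ∑ c, Q (y c) := by
  classical
  rw [CMP2.Q_sum hD]
  apply Finset.sum_congr rfl
  intro c _
  congr 1
  rw [map_sum, Finset.sum_eq_single c]
  · exact CMP1.of_mem hD (hy c)
  · intro i _ hic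
    exact CMP1.of_mem_ne hD hic (hy i)
  · intro h
    exact absurd (Finset.mem_univ c) h

theorem swapL_isom (hD : HD Q k D) {b b' : Fin t} (hbb' : b ≠ b') (φ : D b ≃ₗ[F] D b')
    (hφ : ∀ w : D b, Q ((φ w : D b') : ι → F) = Q (w : ι → F))
    (x : ι → F) : Q (swapL hD b b' φ x) = Q x := by
  have h1 : swapL hD b b' φ x =
      ∑ c, swapL hD b b' φ (cmp D (Equiv.swap b b' c) x) := by
    conv_lhs => rw [← CMP1.sum hD x]
    rw [map_sum]
    exact (Equiv.sum_comp (Equiv.swap b b')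
      (fun c => swapL hD b b' φ (cmp D c x))).symm
  rw [h1, Q_sum_of_mem hD]
  · have h2 : ∀ c, Q (swapL hD b b' φ (cmp D (Equiv.swap b b' c) x)) =
        Q (cmp D (Equiv.swap b b' c) x) := fun c =>
      (swapL_block hD hbb' φ hφ _ (CMP1.mem hD _ x)).2.1
    simp only [h2]
    rw [Equiv.sum_comp (Equiv.swap b b') (fun c => Q (cmp D c x)), ← CMP2.Q_sum hD]
  · intro c
    have := (swapL_block hD hbb' φ hφ _ (CMP1.mem hD (Equiv.swap b b' c) x)).1
    rwa [Equiv.swap_apply_self] at this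

end SWAP

/-- an isometry of `Q` interchanging the blocks `b ≠ b'` and fixing the other blocks pointwise:
`x ↦ x - x_b - x_b' + φ x_b + φ⁻¹ x_b'`, `φ : D b ≃ D b'` the isometry of `hD.iso` -/
theorem SWAP.exists (hD : HD Q k D) {b b' : Fin t} (hbb' : b ≠ b') :
    ∃ g : OGq Q, (∀ x ∈ D b, mt (Q) g *ᵥ x ∈ D b') ∧
      (∀ x ∈ D b', mt (Q) g *ᵥ x ∈ D b) ∧
      ∀ i, i ≠ b → i ≠ b' → ∀ x ∈ D i, mt (Q) g *ᵥ x = x := by
  obtain ⟨φ, hφ⟩ := hD.iso b b'
  set L := SWAP.swapL hD b b' φ with hL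
  have hMM : LinearMap.toMatrix' L * LinearMap.toMatrix' L = 1 := by
    rw [← LinearMap.toMatrix'_comp, ← LinearMap.toMatrix'_id]
    congr 1
    apply LinearMap.ext
    intro x
    exact SWAP.swapL_invol hD hbb' φ hφ x
  let gGL : GL (ι) F := ⟨LinearMap.toMatrix' L, LinearMap.toMatrix' L, hMM, hMM⟩
  have hmem : gGL ∈ Cfsg.isometryGroup F ⇑(Q) := by
    rw [Cfsg.Agent.Helper28.IsoTransport.mem_isometryGroup_iff]
    intro u
    show Q (LinearMap.toMatrix' L *ᵥ u) = Q u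
    rw [LinearMap.toMatrix'_mulVec]
    exact SWAP.swapL_isom hD hbb' φ hφ u
  have hmv : ∀ x, mt (Q) (⟨gGL, hmem⟩ : OGq Q) *ᵥ x = L x := by
    intro x
    show LinearMap.toMatrix' L *ᵥ x = L x
    rw [LinearMap.toMatrix'_mulVec]
  refine ⟨⟨gGL, hmem⟩, ?_, ?_, ?_⟩
  · intro x hx
    rw [hmv, hL, SWAP.swapL_of_mem_b hD hbb' φ hx]
    exact (φ ⟨x, hx⟩).2
  · intro x hx
    rw [hmv, hL, SWAP.swapL_of_mem_b' hD hbb' φ hx]
    exact (φ.symm ⟨x, hx⟩).2
  · intro i hib hib' x hx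
    rw [hmv, hL, SWAP.swapL_of_mem_other hD hib hib' φ hx]

end Cfsg.Agent.OC2E
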