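import Cfsg.Agent.Helper29.OC2E.Defs
import Cfsg.Agent.Helper29.OC2E.STAB
import Cfsg.Agent.Helper29.OC2E.SWAP

set_option autoImplicit false
set_option linter.unusedSectionVars false
set_option linter.unusedVariables false

/-! # S5677, piece CYC3: block 3-cycles in `HS D` (commutators of block swaps) -/

namespace Cfsg.Agent.OC2E

open Matrix Cfsg.Agent.Helper28.Sg Cfsg.Agent.Helper28.Spin Cfsg.Agent.Helper12.OrthGen
  Cfsg.Agent.S2614 Cfsg.Agent.S5683P Cfsg.Agent.Helper28.NDM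

variable {F : Type*} [Field F] {t k : ℕ} {ι : Type} [Fintype ι] [DecidableEq ι] {Q : QuadraticForm F (ι → F)} [QHyp Q] {D : Fin t → Submodule F (ι → F)}

namespace CYC3

/-- `g` maps the block `D i` into the block `D (σ i)`, for every `i` -/
def Along (D : Fin t → Submodule F (ι → F)) (g : OGq Q) (σ : Equiv.Perm (Fin t)) : Prop :=
  ∀ i, ∀ x ∈ D i, mt (Q) g *ᵥ x ∈ D (σ i)

theorem Along.mul {g h : OGq Q} {σ τ : Equiv.Perm (Fin t)} (hg : Along D g σ) (hh : Along D h τ) :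
    Along D (g * h) (σ * τ) := by
  intro i x hx
  rw [mt_mul_mulVec, Equiv.Perm.mul_apply]
  exact hg _ _ (hh i x hx)

/-- an isometry mapping `D i` into `D j` maps it onto `D j` (equal dimensions) -/
theorem exists_preimage (hD : HD Q k D) (g : OGq Q) {i j : Fin t}
    (h : ∀ x ∈ D i, mt (Q) g *ᵥ x ∈ D j) {y : ι → F} (hy : y ∈ D j) :
    ∃ x ∈ D i, mt (Q) g *ᵥ x = y := by
  have hle : (D i).map (Matrix.toLin' (mt (Q) g)) ≤ D j := by
    rintro _ ⟨x, hx, rfl⟩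
    rw [Matrix.toLin'_apply]
    exact h x hx
  have hinj : Function.Injective (Matrix.toLin' (mt (Q) g)) := by
    intro x y hxy
    rw [Matrix.toLin'_apply, Matrix.toLin'_apply] at hxy
    have := congrArg (fun z => mt (Q) g⁻¹ *ᵥ z) hxy
    simpa only [mt_inv_mulVec] using this
  have hfr : Module.finrank F ((D i).map (Matrix.toLin' (mt (Q) g))) =
      Module.finrank F (D j) := by
    rw [hD.rank j, ← hD.rank i]
    exact (Submodule.equivMapOfInjective _ hinj (D i)).finrank_eq.symm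
  have heq := Submodule.eq_of_le_of_finrank_eq hle hfr
  rw [← heq] at hy
  obtain ⟨x, hx, hxy⟩ := hy
  refine ⟨x, hx, ?_⟩
  rw [← hxy, Matrix.toLin'_apply]

theorem Along.inv (hD : HD Q k D) {g : OGq Q} {σ : Equiv.Perm (Fin t)} (hg : Along D g σ) :
    Along D g⁻¹ σ⁻¹ := by
  intro i y hy
  have h1 : ∀ x ∈ D (σ⁻¹ i), mt (Q) g *ᵥ x ∈ D i := by
    intro x hx
    have := hg (σ⁻¹ i) x hx
    have e : σ (σ⁻¹ i) = i := Equiv.apply_symm_apply σ i
    rwa [e] at this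
  obtain ⟨x, hx, rfl⟩ := exists_preimage hD g h1 hy
  rw [mt_inv_mulVec]
  exact hx

theorem along_swap {g : OGq Q} {b b' : Fin t}
    (h1 : ∀ x ∈ D b, mt (Q) g *ᵥ x ∈ D b')
    (h2 : ∀ x ∈ D b', mt (Q) g *ᵥ x ∈ D b)
    (h3 : ∀ i, i ≠ b → i ≠ b' → ∀ x ∈ D i, mt (Q) g *ᵥ x = x) :
    Along D g (Equiv.swap b b') := by
  intro i x hx
  by_cases hib : i = b
  · subst hib
    rw [Equiv.swap_apply_left]
    exact h1 x hx
  · by_cases hib' : i = b'
    · subst hib'
      rw [Equiv.swap_apply_right]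
      exact h2 x hx
    · rw [Equiv.swap_apply_of_ne_of_ne hib hib', h3 i hib hib' x hx]
      exact hx

end CYC3

/-- the commutator of two block swaps is a 3-cycle on the blocks and lies in
`Ω(Q) = S(Q)` (`Omega_eq_S_odd`) -/
theorem CYC3.exists [Fintype F] (h2 : (2 : F) = 0) (hm : True) (hD : HD Q k D) {a b c : Fin t}
    (hab : a ≠ b) (hbc : b ≠ c) (hac : a ≠ c) :
    ∃ g ∈ HS D, (∀ x ∈ D a, mt (Q) g *ᵥ x ∈ D b) ∧
      (∀ x ∈ D b, mt (Q) g *ᵥ x ∈ D c) ∧ (∀ x ∈ D c, mt (Q) g *ᵥ x ∈ D a) := by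
  obtain ⟨g₁, h11, h12, h13⟩ := SWAP.exists hD hab
  obtain ⟨g₂, h21, h22, h23⟩ := SWAP.exists hD hbc
  have A1 : CYC3.Along D g₁ (Equiv.swap a b) := CYC3.along_swap h11 h12 h13
  have A2 : CYC3.Along D g₂ (Equiv.swap b c) := CYC3.along_swap h21 h22 h23
  have A : CYC3.Along D (g₂ * g₁ * g₂⁻¹ * g₁⁻¹)
      (Equiv.swap b c * Equiv.swap a b * (Equiv.swap b c)⁻¹ * (Equiv.swap a b)⁻¹) :=
    ((A2.mul A1).mul (A2.inv hD)).mul (A1.inv hD)
  refine ⟨g₂ * g₁ * g₂⁻¹ * g₁⁻¹, ?_, ?_, ?_, ?_⟩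
  · rw [mem_HS]
    refine ⟨STAB.of_perm hD _ A, ?_⟩
    rw [← (QHyp.om (Q := Q))]
    show g₂ * g₁ * g₂⁻¹ * g₁⁻¹ ∈ commutator _
    rw [commutator_def]
    exact Subgroup.commutator_mem_commutator (Subgroup.mem_top g₂) (Subgroup.mem_top g₁)
  · intro x hx
    have := A a x hx
    have e : (Equiv.swap b c * Equiv.swap a b * (Equiv.swap b c)⁻¹ * (Equiv.swap a b)⁻¹) a = b := by
      simp only [Equiv.swap_inv, Equiv.Perm.mul_apply, Equiv.swap_apply_left,
        Equiv.swap_apply_right, Equiv.swap_apply_of_ne_of_ne hac.symm hbc.symm]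
    rwa [e] at this
  · intro x hx
    have := A b x hx
    have e : (Equiv.swap b c * Equiv.swap a b * (Equiv.swap b c)⁻¹ * (Equiv.swap a b)⁻¹) b = c := by
      simp only [Equiv.swap_inv, Equiv.Perm.mul_apply, Equiv.swap_apply_left,
        Equiv.swap_apply_right, Equiv.swap_apply_of_ne_of_ne hab hac]
    rwa [e] at this
  · intro x hx
    have := A c x hx
    have e : (Equiv.swap b c * Equiv.swap a b * (Equiv.swap b c)⁻¹ * (Equiv.swap a b)⁻¹) c = a := by
      simp only [Equiv.swap_inv, Equiv.Perm.mul_apply,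
        Equiv.swap_apply_right, Equiv.swap_apply_of_ne_of_ne hac.symm hbc.symm,
        Equiv.swap_apply_of_ne_of_ne hab hac]
    rwa [e] at this

end Cfsg.Agent.OC2E
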