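import Cfsg.Agent.Helper29.OC2E.Defs

set_option autoImplicit false
set_option linter.unusedSectionVars false
set_option linter.unusedVariables false

/-! # S5677, chapter C4 (`G1 M D → S Q ≤ M`): definitions

`Lsub M u hu` (`Cfsg.Agent.Helper28.NDM`) is the `F`-subspace of the `w ⊥ u` with `s • w ∈ Rad M u hu`
for all `s : F`. -/

namespace Cfsg.Agent.OC2E

open Matrix Cfsg.Agent.Helper28.Sg Cfsg.Agent.Helper28.Spin Cfsg.Agent.Helper12.OrthGen
  Cfsg.Agent.S2614 Cfsg.Agent.S5683P Cfsg.Agent.Helper28.NDM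

variable {F : Type*} [Field F] [Fintype F] {t : ℕ} {ι : Type} [Fintype ι] [DecidableEq ι] {Q : QuadraticForm F (ι → F)} [QHyp Q]

/-- the blocks `c`, `b` are linked: all root elements `E(u, x)`, `u ∈ D c` singular, `x ∈ D b`, lie
in `M` -/
def Link (M : Subgroup (OGq Q)) (D : Fin t → Submodule F (ι → F)) (c b : Fin t) : Prop :=
  ∀ u ∈ D c, u ≠ 0 → ∀ hQu : Q u = 0, D b ≤ Lsub M u hQu

end Cfsg.Agent.OC2E
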