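import Cfsg.Agent.Helper29.OC2E.Defs
import Cfsg.Agent.Helper29.OC2E.Defs2
import Cfsg.Agent.Helper29.OC2E.GEOB
import Cfsg.Agent.Helper29.OC2E.SIEGMEM

set_option autoImplicit false
set_option linter.unusedSectionVars false
set_option linter.unusedVariables false

/-! # OC2E (S5677 route ported to a general form, characteristic 2) piece SPREAD1: a singular vector of another block not perpendicular to `Rad M u` lies in `Lsub M u`. -/

namespace Cfsg.Agent.OC2E

open Matrix Cfsg.Agent.Helper28.Sg Cfsg.Agent.Helper28.Spin Cfsg.Agent.Helper12.OrthGen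
  Cfsg.Agent.S2614 Cfsg.Agent.S5683P Cfsg.Agent.Helper28.NDM

variable {F : Type*} [Field F] [Fintype F] {t k : ℕ} {ι : Type} [Fintype ι] [DecidableEq ι] {Q : QuadraticForm F (ι → F)} [QHyp Q] {D : Fin t → Submodule F (ι → F)}
  {M : Subgroup (OGq Q)}

namespace SPREAD1

/-- two vectors of `N` perpendicular to a singular `e'` and not perpendicular to each other -/
theorem exists_pair (N : Submodule F (ι → F)) (hN : NDon (Q) N)
    (h3 : 3 ≤ Module.finrank F N) {u : ι → F} (hu : u ∈ N) (hu0 : u ≠ 0) (hQu : Q u = 0) :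
    ∃ z' ∈ N, ∃ z'' ∈ N, B (Q) u z' = 0 ∧ B (Q) u z'' = 0 ∧ B (Q) z' z'' ≠ 0 := by
  classical
  obtain ⟨f, hfN, hQf, huf⟩ :=
    Cfsg.Agent.Helper28.PDN.exists_partner_in (Q) N hN.geo u hu hu0 hQu
  have hnd := NDon_perp_hyp (Q) N hN u f hu hfN hQu hQf huf
  have hfin := finrank_perpIn (Q) (QHyp.nd (Q := Q)) N ({u, f} : Finset (ι → F))
  have hc : ({u, f} : Finset (ι → F)).card ≤ 2 := Finset.card_le_two
  have hcoe : (({u, f} : Finset (ι → F)) : Set (ι → F)) = {u, f} := by simp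
  rw [hcoe] at hfin
  have h3' := le_trans h3 hfin
  have hpos : 0 < Module.finrank F (perpIn (Q) N {u, f}) := by omega
  obtain ⟨⟨x, hxP⟩, hx0⟩ := Module.finrank_pos_iff_exists_ne_zero.mp hpos
  have hx0' : x ≠ 0 := fun h0 => hx0 (Subtype.ext h0)
  obtain ⟨y, hyP, hxy⟩ := hnd x hxP hx0'
  rw [mem_perpIn] at hxP hyP
  exact ⟨x, hxP.1, y, hyP.1, hxP.2 u (by simp), hyP.2 u (by simp), hxy⟩

/-- polarisation in a block `b` other than the block `c` of `u`: `E(e', z')`, `E(e', z'')`,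
`E(e', z' + z'') ∈ HS D ≤ M` fix `u`, so map `Rad M u` to itself, and
`h₁ w + h₂ w - h₃ w - w = B(z', z'') B(e', w) e'` -/
theorem pol (hD : HD Q k D) (hHM : HS D ≤ M) {c b : Fin t} (hcb : c ≠ b) {u : ι → F}
    (hu : u ∈ D c) (hQu : Q u = 0) {e' z' z'' : ι → F} (he' : e' ∈ D b) (hz' : z' ∈ D b)
    (hz'' : z'' ∈ D b) (hQe' : Q e' = 0) (hez : B (Q) e' z' = 0) (hez' : B (Q) e' z'' = 0)
    {w : ι → F} (hw : w ∈ Rad M u hQu) :
    (B (Q) z' z'' * B (Q) e' w) • e' ∈ Rad M u hQu := by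
  have he'u : B (Q) e' u = 0 := hD.orth b c (Ne.symm hcb) e' he' u hu
  have hz'u : B (Q) z' u = 0 := hD.orth b c (Ne.symm hcb) z' hz' u hu
  have hz''u : B (Q) z'' u = 0 := hD.orth b c (Ne.symm hcb) z'' hz'' u hu
  have hez3 : B (Q) e' (z' + z'') = 0 := by
    show QuadraticMap.polar _ e' (z' + z'') = 0
    rw [QuadraticMap.polar_add_right]
    simp only [B] at hez hez'
    rw [hez, hez', add_zero]
  have hz3u : B (Q) (z' + z'') u = 0 := by
    show QuadraticMap.polar _ (z' + z'') u = 0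
    rw [QuadraticMap.polar_add_left]
    simp only [B] at hz'u hz''u
    rw [hz'u, hz''u, add_zero]
  have h1M : siegO (Q) e' z' hQe' hez ∈ M := hHM (SIEGMEM.mem hD he' hz' hQe' hez)
  have h2M : siegO (Q) e' z'' hQe' hez' ∈ M := hHM (SIEGMEM.mem hD he' hz'' hQe' hez')
  have h3M : siegO (Q) e' (z' + z'') hQe' hez3 ∈ M :=
    hHM (SIEGMEM.mem hD he' ((D b).add_mem hz' hz'') hQe' hez3)
  have h1u : mt (Q) (siegO (Q) e' z' hQe' hez) *ᵥ u = u := by
    rw [siegO_mulVec, he'u, hz'u]; simp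
  have h2u : mt (Q) (siegO (Q) e' z'' hQe' hez') *ᵥ u = u := by
    rw [siegO_mulVec, he'u, hz''u]; simp
  have h3u : mt (Q) (siegO (Q) e' (z' + z'') hQe' hez3) *ᵥ u = u := by
    rw [siegO_mulVec, he'u, hz3u]; simp
  have r1 := Rad_conj' h1M hw hQu h1u rfl
  have r2 := Rad_conj' h2M hw hQu h2u rfl
  have r3 := Rad_conj' h3M hw hQu h3u rfl
  have h4 := (Rad M u hQu).sub_mem ((Rad M u hQu).add_mem r1 r2) ((Rad M u hQu).add_mem r3 hw)
  have hQ3 : Q (z' + z'') = Q z' + Q z'' + B (Q) z' z'' := by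
    have := Q_add (Q) z' z''
    linear_combination this
  have hB3 : B (Q) (z' + z'') w = B (Q) z' w + B (Q) z'' w := by
    show QuadraticMap.polar _ (z' + z'') w = _
    rw [QuadraticMap.polar_add_left]
  convert h4 using 1
  rw [siegO_mulVec, siegO_mulVec, siegO_mulVec, hQ3, hB3]
  funext i
  simp only [Pi.smul_apply, Pi.add_apply, Pi.sub_apply, smul_eq_mul]
  ring

end SPREAD1

/-- a singular `e' ∈ D b` not perpendicular to some `w ∈ Rad M u` lies in `Lsub M u`: polarisation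
(SPREAD1.pol) with `s • z'`, `z''`, where `z', z'' ∈ D b` are `⊥ e'` and `B(z', z'') ≠ 0`
(characteristic free) -/
theorem SPREAD1.mem (h2 : (2 : F) = 0) (hD : HD Q k D) (hHM : HS D ≤ M) {c b : Fin t} (hcb : c ≠ b)
    {u : ι → F} (hu : u ∈ D c) (hQu : Q u = 0) {e' : ι → F} (he' : e' ∈ D b)
    (he'0 : e' ≠ 0) (hQe' : Q e' = 0) {w : ι → F} (hw : w ∈ Rad M u hQu)
    (hne : B (Q) e' w ≠ 0) : e' ∈ Lsub M u hQu := by
  have h3 : 3 ≤ Module.finrank F (D b) := by rw [hD.rank b]; exact hD.k3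
  obtain ⟨z', hz'N, z'', hz''N, hez, hez', hzz⟩ :=
    SPREAD1.exists_pair (D b) (hD.nd b) h3 he' he'0 hQe'
  have hall : ∀ x : F, x • e' ∈ Rad M u hQu := by
    intro x
    have hes : B (Q) e' ((x * (B (Q) z' z'' * B (Q) e' w)⁻¹) • z') = 0 :=
      B_smul_right_zero _ _ hez
    have := SPREAD1.pol hD hHM hcb hu hQu he' ((D b).smul_mem _ hz'N) hz''N hQe' hes hez' hw
    convert this using 2
    have hb : B (Q) ((x * (B (Q) z' z'' * B (Q) e' w)⁻¹) • z') z''
        = (x * (B (Q) z' z'' * B (Q) e' w)⁻¹) * B (Q) z' z'' := by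
      show QuadraticMap.polar _ _ _ = _
      rw [QuadraticMap.polar_smul_left]; rfl
    rw [hb]
    field_simp
  rw [mem_Lsub]
  have hue' : B (Q) u e' = 0 := hD.orth c b hcb u hu e' he'
  refine ⟨hue', fun s hs => ?_⟩
  obtain ⟨_, hmem⟩ := mem_Rad.mp (hall s)
  exact hmem

end Cfsg.Agent.OC2E
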