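import Cfsg.Agent.Helper29.OC2E.Defs
import Cfsg.Agent.Helper29.OC2E.Defs2
import Cfsg.Agent.Helper29.OC2E.BLK
import Cfsg.Agent.Helper29.OC2E.GEOA
import Cfsg.Agent.Helper29.OC2E.LSUB
import Cfsg.Agent.Helper29.OC2E.SPREAD1

/-! S5677 piece SPREAD (helper21): one non-zero singular vector of `D b` in `Lsub M u` gives `D b ≤ Lsub M u`. -/

set_option autoImplicit false
set_option linter.unusedSectionVars false
set_option linter.unusedVariables false

namespace Cfsg.Agent.OC2E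

open Matrix Cfsg.Agent.Helper28.Sg Cfsg.Agent.Helper28.Spin Cfsg.Agent.Helper12.OrthGen
  Cfsg.Agent.S2614 Cfsg.Agent.S5683P Cfsg.Agent.Helper28.NDM

variable {F : Type*} [Field F] [Fintype F] {t k : ℕ} {ι : Type} [Fintype ι] [DecidableEq ι] {Q : QuadraticForm F (ι → F)} [QHyp Q] {D : Fin t → Submodule F (ι → F)}
  {M : Subgroup (OGq Q)}

theorem SPREAD.le (h2 : (2 : F) = 0) (hD : HD Q k D) (hHM : HS D ≤ M) {c b : Fin t} (hcb : c ≠ b)
    {u : ι → F} (hu : u ∈ D c) (hQu : Q u = 0) {e' : ι → F} (he' : e' ∈ D b)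
    (he'0 : e' ≠ 0) (hQe' : Q e' = 0) (hmem : e' ∈ Lsub M u hQu) :
    D b ≤ Lsub M u hQu := by
  apply le_of_singular_mem (Q) (D b) (BLK.ndon hD b) (BLK.three hD b)
  intro x hx hQx
  by_cases hx0 : x = 0
  · rw [hx0]
    exact (Lsub M u hQu).zero_mem
  obtain ⟨f, hf, hQf, hef, hxf⟩ :=
    GEOA.connect (D b) (BLK.ndon hD b) (BLK.three hD b) he' hx he'0 hx0 hQe' hQx
  have hf0 : f ≠ 0 := by
    rintro rfl
    apply hef
    exact QuadraticMap.polar_zero_right _ _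
  have hfe : B (Q) f e' ≠ 0 := by rw [B_comm]; exact hef
  have hfL : f ∈ Lsub M u hQu :=
    SPREAD1.mem h2 hD hHM hcb hu hQu hf hf0 hQf (LSUB.mem_rad hQu hmem) hfe
  exact SPREAD1.mem h2 hD hHM hcb hu hQu hx hx0 hQx (LSUB.mem_rad hQu hfL) hxf

end Cfsg.Agent.OC2E
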