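import Cfsg.Agent.Helper29.OC2E.Defs

set_option autoImplicit false
set_option linter.unusedSectionVars false
set_option linter.unusedVariables false

/-! # OC2K piece BRIDGEHD (general form) -/

namespace Cfsg.Agent.OC2E

open Matrix Cfsg.Agent.Helper28.Sg Cfsg.Agent.Helper28.Spin Cfsg.Agent.Helper12.OrthGen
  Cfsg.Agent.S2614 Cfsg.Agent.S5683P Cfsg.Agent.Helper28.NDM

variable {F : Type*} [Field F] {t k : ℕ} {ι : Type} [Fintype ι] [DecidableEq ι] {Q : QuadraticForm F (ι → F)} [QHyp Q] {D : Fin t → Submodule F (ι → F)}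

namespace BRIDGEHD

open DirectSum in
theorem finrank_eq_sum {V : Type*} [AddCommGroup V] [Module F V]
    [FiniteDimensional F V] {t : ℕ} (D : Fin t → Submodule F V) (hi : iSupIndep D)
    (ht : iSup D = ⊤) : Module.finrank F V = ∑ i, Module.finrank F (D i) := by
  classical
  have hint : DirectSum.IsInternal D :=
    DirectSum.isInternal_submodule_of_iSupIndep_of_iSup_eq_top hi ht
  have e : (⨁ i, D i) ≃ₗ[F] V := LinearEquiv.ofBijective (DirectSum.coeLinearMap D) hint
  rw [← e.finrank_eq, Module.finrank_directSum]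

end BRIDGEHD

/-- from the frozen-style hypothesis to `HD` -/
theorem BRIDGEHD.hd (hk : 4 ≤ k) (ht : 3 ≤ t)
    (hD : Cfsg.Geo.IsOrthogonalMDecomposition (⇑Q) k D) : HD Q k D := by
  classical
  have hdec := hD.decomp.decomp
  have hkt : k * t = Fintype.card ι := by
    have h1 := BRIDGEHD.finrank_eq_sum D hdec.indep hdec.iSup_eq_top
    rw [Module.finrank_fintype_fun_eq_card] at h1
    simp only [hdec.finrank_eq, Finset.sum_const, Finset.card_univ, Fintype.card_fin,
      smul_eq_mul] at h1
    rw [mul_comm]; omega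
  refine ⟨by omega, hk, ht, hkt, hdec.finrank_eq, hdec.indep, hdec.iSup_eq_top, ?_, ?_, ?_⟩
  · intro i x hx hx0
    obtain ⟨-, y, hy, hne⟩ := hD.decomp.nondegenerate i x hx hx0
    exact ⟨y, hy, hne⟩
  · intro i j hij u hu v hv
    exact hD.decomp.orthogonal i j hij u hu v hv
  · intro i j
    obtain ⟨e, he⟩ := hD.isometric i j
    exact ⟨e, fun w => he w⟩

end Cfsg.Agent.OC2E
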