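import Mathlib
import Cfsg.Prelude.Def_GeometricClasses
import Cfsg.Agent.Helper12.S5683Lib
import Cfsg.Agent.Helper12.OrthGenB
import Cfsg.Agent.Helper28.NondegMax2

set_option autoImplicit false
set_option linter.unusedSectionVars false
set_option linter.unusedVariables false
set_option linter.deprecated false

/-! # OC2K: the S5677 route ported to a general quadratic form `Q` on `ι → F` (definitions)

`ι = Unit ⊕ (Fin m ⊕ Fin m)`, `Q = Q` (`Cfsg.Agent.S2614`), `OGq Q` its isometry group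
(`Cfsg.Agent.S5683P`), `B`, `mt`, `siegO`, `reflO`, `S` from `Cfsg.Agent.Helper28.Sg`,
`Rad M u hu = {w | E(u, w) ∈ M}` and `S_le_of_rad` from `Cfsg.Agent.Helper12.OrthGen`,
`NDon` and the geometry inside a nondegenerate subspace from `Cfsg.Agent.Helper28.NDM`. -/

namespace Cfsg.Agent.OC2E

open Matrix Cfsg.Agent.Helper28.Sg Cfsg.Agent.Helper28.Spin Cfsg.Agent.Helper12.OrthGen
  Cfsg.Agent.S2614 Cfsg.Agent.S5683P Cfsg.Agent.Helper28.NDM

/-- the isometry group of `Q`, as a type -/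
abbrev OGq {F : Type*} [Field F] {ι : Type} [Fintype ι] [DecidableEq ι]
    (Q : QuadraticForm F (ι → F)) : Type _ := ↥(Cfsg.isometryGroup F ⇑Q)

/-- the standing hypotheses on the form: nondegenerate polar form and `Ω(Q) = S(Q)` -/
class QHyp {F : Type*} [Field F] {ι : Type} [Fintype ι] [DecidableEq ι]
    (Q : QuadraticForm F (ι → F)) : Prop where
  nd : (QuadraticMap.polarBilin Q).Nondegenerate
  om : Cfsg.Omega F ⇑Q = S Q

variable {F : Type*} [Field F] {t : ℕ} {ι : Type} [Fintype ι] [DecidableEq ι] {Q : QuadraticForm F (ι → F)}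

/-- the hypotheses on the decomposition `D`, for the form `Q` -/
structure HD (Q : QuadraticForm F (ι → F)) (k : ℕ) (D : Fin t → Submodule F (ι → F)) : Prop where
  k3 : 3 ≤ k
  k4 : 4 ≤ k
  t3 : 3 ≤ t
  kt : k * t = Fintype.card ι
  rank : ∀ i, Module.finrank F (D i) = k
  indep : iSupIndep D
  top : iSup D = ⊤
  nd : ∀ i, ∀ x ∈ D i, x ≠ 0 → ∃ y ∈ D i, B (Q) x y ≠ 0
  orth : ∀ i j, i ≠ j → ∀ u ∈ D i, ∀ v ∈ D j, B (Q) u v = 0
  iso : ∀ i j, ∃ e : D i ≃ₗ[F] D j, ∀ w : D i,
    Q ((e w : D j) : ι → F) = Q (w : ι → F)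

/-- a vector lying in one of the blocks -/
def Pure (D : Fin t → Submodule F (ι → F)) (x : ι → F) : Prop := ∃ c, x ∈ D c

/-- the stabiliser of the decomposition in the isometry group -/
def StabO (D : Fin t → Submodule F (ι → F)) : Subgroup (OGq Q) :=
  (Cfsg.Geo.decompositionStabilizer D).comap (Cfsg.isometryGroup F ⇑(Q)).subtype

/-- the stabiliser of the decomposition in `S(Q) = Ω(Q)` -/
def HS (D : Fin t → Submodule F (ι → F)) : Subgroup (OGq Q) :=
  StabO D ⊓ S (Q)

/-- the sum of the blocks other than `D c` (`= (D c)^⊥`) -/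
def Oth (D : Fin t → Submodule F (ι → F)) (c : Fin t) : Submodule F (ι → F) :=
  ⨆ b : {b : Fin t // b ≠ c}, D b.1

open Classical in
/-- the projection onto the block `D c` along the sum of the other blocks -/
noncomputable def cmp (D : Fin t → Submodule F (ι → F)) (c : Fin t) :
    (ι → F) →ₗ[F] (ι → F) :=
  if h : IsCompl (D c) (Oth D c) then
    (D c).subtype ∘ₗ Submodule.linearProjOfIsCompl (D c) (Oth D c) h
  else 0

/-- the part of the block `D c` perpendicular to `u` -/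
def Tu (Q : QuadraticForm F (ι → F)) (D : Fin t → Submodule F (ι → F)) (c : Fin t) (u : ι → F) :
    Submodule F (ι → F) where
  carrier := {w | w ∈ D c ∧ B (Q) u w = 0}
  zero_mem' := ⟨(D c).zero_mem, QuadraticMap.polar_zero_right _ _⟩
  add_mem' := by
    rintro a b ⟨ha, ha'⟩ ⟨hb, hb'⟩
    refine ⟨(D c).add_mem ha hb, ?_⟩
    show QuadraticMap.polar _ u (a + b) = 0
    rw [QuadraticMap.polar_add_right]
    simp only [B] at ha' hb'
    rw [ha', hb', add_zero]
  smul_mem' := by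
    rintro r a ⟨ha, ha'⟩
    refine ⟨(D c).smul_mem r ha, ?_⟩
    show QuadraticMap.polar _ u (r • a) = 0
    rw [QuadraticMap.polar_smul_right]
    simp only [B] at ha'
    rw [ha', smul_zero]

theorem mem_Tu {D : Fin t → Submodule F (ι → F)} {c : Fin t} {u w : ι → F} :
    w ∈ Tu Q D c u ↔ w ∈ D c ∧ B (Q) u w = 0 := Iff.rfl

/-- the overgroup `M` has a long root element `E(u, d)`, `u` singular in a block, `d` outside that
block -/
def G1 (M : Subgroup (OGq Q)) (D : Fin t → Submodule F (ι → F)) : Prop :=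
  ∃ (c : Fin t) (u : ι → F) (hu : Q u = 0), u ∈ D c ∧ u ≠ 0 ∧
    ∃ d ∈ Rad M u hu, d ∉ D c

/-- membership in the stabiliser, unfolded -/
theorem mem_StabO {D : Fin t → Submodule F (ι → F)} {g : OGq Q} :
    g ∈ StabO D ↔ ∃ σ : Equiv.Perm (Fin t), ∀ i,
      (D i).map (Matrix.toLin' (mt (Q) g)) = D (σ i) := Iff.rfl

theorem mem_HS {D : Fin t → Submodule F (ι → F)} {g : OGq Q} :
    g ∈ HS D ↔ g ∈ StabO D ∧ g ∈ S (Q) := Subgroup.mem_inf

/-- `v` is a non-pure image of a pure singular vector under an element of `M` -/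
structure NPV (M : Subgroup (OGq Q)) (D : Fin t → Submodule F (ι → F)) (v : ι → F) :
    Prop where
  Qv : Q v = 0
  np : ¬ Pure D v
  img : ∃ g ∈ M, ∃ c, ∃ u ∈ D c, u ≠ 0 ∧ Q u = 0 ∧ mt (Q) g *ᵥ u = v

end Cfsg.Agent.OC2E
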