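import Cfsg.Agent.Helper29.OC2E.Defs
import Cfsg.Agent.Helper29.OC2E.SIEGMEM
import Cfsg.Agent.Helper29.OC2E.GEOB
import Cfsg.Agent.Helper29.OC2E.BLK

/-! S5677 pieces RADT + RADV (driver helper29): without `G1`, `Rad M u = Tu Q D c u` for pure singular `u`,
and `Rad M (g u) = g (Tu Q D c u)` for `g ∈ M`. -/

set_option autoImplicit false
set_option linter.unusedSectionVars false
set_option linter.unusedVariables false

namespace Cfsg.Agent.OC2E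

open Matrix Cfsg.Agent.Helper28.Sg Cfsg.Agent.Helper28.Spin Cfsg.Agent.Helper12.OrthGen
  Cfsg.Agent.S2614 Cfsg.Agent.S5683P Cfsg.Agent.Helper28.NDM

variable {F : Type*} [Field F] {t k : ℕ} {ι : Type} [Fintype ι] [DecidableEq ι] {Q : QuadraticForm F (ι → F)} [QHyp Q] {D : Fin t → Submodule F (ι → F)}
  {M : Subgroup (OGq Q)}

/-- (R) without `G1`, `Rad M u = Tu Q D c u` for a pure singular `u ≠ 0` -/
theorem RADT.iff (hD : HD Q k D) (hHM : HS D ≤ M) (hG1 : ¬ G1 M D) {c : Fin t} {u : ι → F}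
    (hu : u ∈ D c) (hu0 : u ≠ 0) (hQu : Q u = 0) {w : ι → F} :
    w ∈ Rad M u hQu ↔ w ∈ Tu Q D c u := by
  constructor
  · intro hw
    refine ⟨?_, Rad_perp hw⟩
    by_contra hwD
    exact hG1 ⟨c, u, hQu, hu, hu0, w, hw, hwD⟩
  · intro hw
    exact SIEGMEM.Tu_le hD hHM hu hQu hw

/-- (P) `Rad M (g u) = g (Tu Q D c u)` for `g ∈ M` -/
theorem RADV.iff (hD : HD Q k D) (hHM : HS D ≤ M) (hG1 : ¬ G1 M D) {g : OGq Q} (hg : g ∈ M)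
    {c : Fin t} {u : ι → F} (hu : u ∈ D c) (hu0 : u ≠ 0) (hQu : Q u = 0)
    (hQv : Q (mt (Q) g *ᵥ u) = 0) {y : ι → F} :
    y ∈ Rad M (mt (Q) g *ᵥ u) hQv ↔ ∃ w ∈ Tu Q D c u, y = mt (Q) g *ᵥ w := by
  constructor
  · intro hy
    have h1 : mt (Q) g⁻¹ *ᵥ y ∈ Rad M u hQu :=
      Rad_conj' (M.inv_mem hg) hy hQu (mt_inv_mulVec (Q) g u) rfl
    refine ⟨_, (RADT.iff hD hHM hG1 hu hu0 hQu).1 h1, ?_⟩
    have := mt_inv_mulVec (Q) g⁻¹ y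
    rw [inv_inv] at this
    exact this.symm
  · rintro ⟨w, hw, rfl⟩
    exact Rad_conj hg ((RADT.iff hD hHM hG1 hu hu0 hQu).2 hw) hQv

/-- `P` is closed under scalars -/
theorem RADV.smul (hD : HD Q k D) (hHM : HS D ≤ M) (hG1 : ¬ G1 M D) {v : ι → F}
    (hv : NPV M D v) {y : ι → F} (hy : y ∈ Rad M v hv.Qv) (s : F) :
    s • y ∈ Rad M v hv.Qv := by
  obtain ⟨g, hg, c, u, hu, hu0, hQu, hgu⟩ := hv.img
  subst hgu
  obtain ⟨w, hw, rfl⟩ := (RADV.iff hD hHM hG1 hg hu hu0 hQu hv.Qv).1 hy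
  refine (RADV.iff hD hHM hG1 hg hu hu0 hQu hv.Qv).2 ⟨s • w, (Tu Q D c u).smul_mem s hw, ?_⟩
  rw [Matrix.mulVec_smul]

/-- `P` contains a nonsingular vector -/
theorem RADV.exists_nonsing [Fintype F] (h2 : (2 : F) = 0) (hD : HD Q k D) (hHM : HS D ≤ M)
    (hG1 : ¬ G1 M D) {v : ι → F} (hv : NPV M D v) :
    ∃ y ∈ Rad M v hv.Qv, Q y ≠ 0 := by
  obtain ⟨g, hg, c, u, hu, hu0, hQu, hgu⟩ := hv.img
  subst hgu
  obtain ⟨w, hw, huw, hQw⟩ :=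
    GEOB.nonsing_perp h2 (D c) (BLK.ndon hD c) (BLK.three hD c) hu hu0 hQu
  refine ⟨mt (Q) g *ᵥ w,
    (RADV.iff hD hHM hG1 hg hu hu0 hQu hv.Qv).2 ⟨w, ⟨hw, huw⟩, rfl⟩, ?_⟩
  rw [Q_isom]
  exact hQw

end Cfsg.Agent.OC2E
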