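import Cfsg.Agent.Helper29.OC2E.Defs
import Cfsg.Agent.Helper29.OC2E.SIEGMEM
import Cfsg.Agent.Helper29.OC2E.GP
import Cfsg.Agent.Helper29.OC2E.RADT

set_option autoImplicit false
set_option linter.unusedSectionVars false
set_option linter.unusedVariables false

/-! # OC2E (S5677 route ported to a general form, characteristic 2) piece PM: the `±`-trick with the block Siegel elements `E(u, ±w)` -/

namespace Cfsg.Agent.OC2E

open Matrix Cfsg.Agent.Helper28.Sg Cfsg.Agent.Helper28.Spin Cfsg.Agent.Helper12.OrthGen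
  Cfsg.Agent.S2614 Cfsg.Agent.S5683P Cfsg.Agent.Helper28.NDM

variable {F : Type*} [Field F] {t k : ℕ} {ι : Type} [Fintype ι] [DecidableEq ι] {Q : QuadraticForm F (ι → F)} [QHyp Q] {D : Fin t → Submodule F (ι → F)}
  {M : Subgroup (OGq Q)}

/-- the `λ`-trick (replaces the `±`-trick; needs `|F| ≥ 3`): for `u, w ∈ D c`, `u` singular, `w ⊥ u`,
both `⊥ v`, the elements `h_λ = E(u, λ w) ∈ HS D` fix `v`; `P = Rad M v` is an `F`-subspace and
`(h_λ y - y) - λ (h_1 y - y) = -(λ² - λ) Q(w) B(u,y) u ∈ P` -/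
theorem PM.main (h2 : (2 : F) = 0) (hl : ∃ l : F, l ≠ 0 ∧ l ≠ 1) (hD : HD Q k D) (hHM : HS D ≤ M)
    (hG1 : ¬ G1 M D)
    {v : ι → F} (hv : NPV M D v) {c : Fin t} {u w : ι → F} (hu : u ∈ D c) (hw : w ∈ D c)
    (hu0 : u ≠ 0) (hQu : Q u = 0) (huw : B (Q) u w = 0)
    (huv : B (Q) u v = 0) (hwv : B (Q) w v = 0) {y : ι → F}
    (hy : y ∈ Rad M v hv.Qv) :
    Q w * B (Q) u y = 0 ∧ (B (Q) u y = 0 → B (Q) w y = 0) := by
  obtain ⟨l, hl0, hl1⟩ := hl
  have huw' : B (Q) u (l • w) = 0 := B_smul_right_zero _ l huw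
  have hw' : l • w ∈ D c := (D c).smul_mem l hw
  have hwv' : B (Q) (l • w) v = 0 := by
    rw [B_comm]; exact B_smul_right_zero _ l (by rw [B_comm]; exact hwv)
  have hp := SIEGMEM.mem hD hu hw hQu huw
  have hm := SIEGMEM.mem hD hu hw' hQu huw'
  have hfp : mt (Q) (siegO (Q) u w hQu huw) *ᵥ v = v := by
    rw [siegO_mulVec, huv, hwv]
    simp
  have hfm : mt (Q) (siegO (Q) u (l • w) hQu huw') *ᵥ v = v := by
    rw [siegO_mulVec, huv, hwv']
    simp
  have h1 := GP.one hHM hv.Qv hp hfp hy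
  have h3 := GP.one hHM hv.Qv hm hfm hy
  have hBm : B (Q) (l • w) y = l * B (Q) w y := by
    show QuadraticMap.polar _ (l • w) y = _
    rw [QuadraticMap.polar_smul_left]; rfl
  have hQm : Q (l • w) = l ^ 2 * Q w := by
    rw [Q_smul]; ring
  have e1 : mt (Q) (siegO (Q) u w hQu huw) *ᵥ y - y =
      B (Q) u y • w - B (Q) w y • u -
        (Q w * B (Q) u y) • u := by
    rw [siegO_mulVec]
    abel
  have e2 : mt (Q) (siegO (Q) u (l • w) hQu huw') *ᵥ y - y =
      (l * B (Q) u y) • w - (l * B (Q) w y) • u -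
        (l ^ 2 * Q w * B (Q) u y) • u := by
    rw [siegO_mulVec, hBm, hQm]
    module
  have hsum := (Rad M v hv.Qv).sub_mem h3 (RADV.smul hD hHM hG1 hv h1 l)
  have e3 : (mt (Q) (siegO (Q) u (l • w) hQu huw') *ᵥ y - y) -
      l • (mt (Q) (siegO (Q) u w hQu huw) *ᵥ y - y) =
      (-((l ^ 2 - l) * (Q w * B (Q) u y))) • u := by
    rw [e1, e2]
    module
  rw [e3] at hsum
  have h4 := GP.smul_zero hD hHM hG1 hv hu hu0 hQu hsum
  have h5 : Q w * B (Q) u y = 0 := by
    have : (l ^ 2 - l) * (Q w * B (Q) u y) = 0 := by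
      rw [neg_eq_zero] at h4
      exact h4
    rcases mul_eq_zero.1 this with h | h
    · exfalso
      have : l * (l - 1) = 0 := by linear_combination h
      rcases mul_eq_zero.1 this with h' | h'
      · exact hl0 h'
      · exact hl1 (sub_eq_zero.mp h')
    · exact h
  refine ⟨h5, ?_⟩
  intro h6
  rw [e1, h6] at h1
  have e4 : (0 : F) • w - B (Q) w y • u - (Q w * 0) • u =
      (- B (Q) w y) • u := by
    module
  rw [e4] at h1
  have h7 := GP.smul_zero hD hHM hG1 hv hu hu0 hQu h1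
  rw [neg_eq_zero] at h7
  exact h7

end Cfsg.Agent.OC2E
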