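import Cfsg.Agent.Helper29.OC2E.Defs
import Cfsg.Agent.Helper29.OC2E.CMP1
import Cfsg.Agent.Helper29.OC2E.CMP2
import Cfsg.Agent.Helper29.OC2E.GEOA
import Cfsg.Agent.Helper29.OC2E.GEOB
import Cfsg.Agent.Helper29.OC2E.BLK
import Cfsg.Agent.Helper29.OC2E.PM

set_option autoImplicit false
set_option linter.unusedSectionVars false
set_option linter.unusedVariables false

/-! # OC2E (S5677 route ported to a general form, characteristic 2) piece LOCB2 (driver helper29): LOC at a block where `v_c` is nonsingular, `k ≥ 4`. -/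

namespace Cfsg.Agent.OC2E

open Matrix Cfsg.Agent.Helper28.Sg Cfsg.Agent.Helper28.Spin Cfsg.Agent.Helper12.OrthGen
  Cfsg.Agent.S2614 Cfsg.Agent.S5683P Cfsg.Agent.Helper28.NDM

variable {F : Type*} [Field F] {t k : ℕ} {ι : Type} [Fintype ι] [DecidableEq ι] {Q : QuadraticForm F (ι → F)} [QHyp Q] {D : Fin t → Submodule F (ι → F)}
  {M : Subgroup (OGq Q)}

namespace LOCB2

/-- in `N`, a vector perpendicular to `N ∩ u^⊥` is a multiple of `u` (variant of GEOC.perp_perp with
`B u u = 0` as the hypothesis: in characteristic `2` every vector qualifies) -/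
theorem perp_perp2 (N : Submodule F (ι → F)) (hN : NDon (Q) N) {u : ι → F}
    (hu : u ∈ N) (hu0 : u ≠ 0) (huu : B (Q) u u = 0) {x : ι → F} (hx : x ∈ N)
    (h : ∀ w ∈ N, B (Q) u w = 0 → B (Q) w x = 0) : ∃ s : F, x = s • u := by
  obtain ⟨y, hyN, huy⟩ := hN u hu hu0
  obtain ⟨f, hf⟩ : ∃ f : ι → F, f = (B (Q) u y)⁻¹ • y := ⟨_, rfl⟩
  have hfN : f ∈ N := by rw [hf]; exact N.smul_mem _ hyN
  have huf : B (Q) u f = 1 := by
    rw [hf]
    show QuadraticMap.polar _ u (_ • y) = 1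
    rw [QuadraticMap.polar_smul_right, smul_eq_mul]
    exact inv_mul_cancel₀ huy
  have hfu : B (Q) f u = 1 := by rw [B_comm]; exact huf
  obtain ⟨s, hs⟩ : ∃ s : F, s = B (Q) f x := ⟨_, rfl⟩
  refine ⟨s, ?_⟩
  by_contra hne
  have hx'0 : x - s • u ≠ 0 := fun h0 => hne (sub_eq_zero.mp h0)
  have hx'N : x - s • u ∈ N := N.sub_mem hx (N.smul_mem _ hu)
  obtain ⟨w, hwN, hw⟩ := hN _ hx'N hx'0
  apply hw
  rw [B_comm]
  obtain ⟨w', hw'⟩ : ∃ w' : ι → F, w' = w - B (Q) u w • f := ⟨_, rfl⟩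
  have hw'N : w' ∈ N := by rw [hw']; exact N.sub_mem hwN (N.smul_mem _ hfN)
  have huw' : B (Q) u w' = 0 := by
    rw [hw']
    show QuadraticMap.polar _ u (w - _ • f) = 0
    rw [QuadraticMap.polar_sub_right, QuadraticMap.polar_smul_right, smul_eq_mul]
    have : QuadraticMap.polar (⇑(Q)) u f = 1 := huf
    rw [this, mul_one, sub_self]
  have hw'x : B (Q) w' x = 0 := h w' hw'N huw'
  have hw'u : B (Q) w' u = 0 := by rw [B_comm]; exact huw'
  have hweq : w = w' + B (Q) u w • f := by rw [hw']; abel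
  have e1 : B (Q) w (x - s • u) =
      B (Q) w x - s * B (Q) w u := by
    show QuadraticMap.polar _ w (x - s • u) = _
    rw [QuadraticMap.polar_sub_right, QuadraticMap.polar_smul_right, smul_eq_mul]
  have e2 : B (Q) w x = B (Q) w' x + B (Q) u w * B (Q) f x := by
    conv_lhs => rw [hweq]
    show QuadraticMap.polar _ (w' + _ • f) x = _
    rw [QuadraticMap.polar_add_left, QuadraticMap.polar_smul_left, smul_eq_mul]
  rw [e1, e2, hw'x, ← hs, B_comm (Q) w u]
  ring

theorem B_add_smul_right (x a e : ι → F) (r : F) :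
    B (Q) x (a + r • e) = B (Q) x a + r * B (Q) x e := by
  show QuadraticMap.polar _ x (a + r • e) = _
  rw [QuadraticMap.polar_add_right, QuadraticMap.polar_smul_right, smul_eq_mul]

theorem B_add_smul_left (x a e : ι → F) (r : F) :
    B (Q) (a + r • e) x = B (Q) a x + r * B (Q) e x := by
  rw [B_comm, B_add_smul_right, B_comm (Q) x a, B_comm (Q) x e]

theorem Q_add_smul (a e : ι → F) (r : F) :
    Q (a + r • e) = Q a + r * B (Q) a e + r * r * Q e := by
  have h1 := Q_add (Q) a (r • e)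
  have h2 : B (Q) a (r • e) = r * B (Q) a e := by
    show QuadraticMap.polar _ a (r • e) = _
    rw [QuadraticMap.polar_smul_right, smul_eq_mul]
  rw [Q_smul] at h1
  linear_combination h1 + h2

end LOCB2

/-- LOC, case `v_c =: z` nonsingular, characteristic `2` (`z ⊥ z`!): for every singular
`u' ∈ U := z^⊥ ∩ D c` PM.main with `w := z` gives `B(u', y) = 0`; `U` is spanned by its singular
vectors (`x - (Q x / B(e,x)) e` is singular for `B(e,x) ≠ 0`), so `y_c ⊥ U`, hence `y_c ∈ F z` -/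
theorem LOCB2.loc [Fintype F] (h2 : (2 : F) = 0) (hl : ∃ l : F, l ≠ 0 ∧ l ≠ 1) (hD : HD Q k D)
    (hHM : HS D ≤ M) (hG1 : ¬ G1 M D)
    (hk : 4 ≤ k) {v : ι → F} (hv : NPV M D v) {c : Fin t}
    (hQ : Q (cmp D c v) ≠ 0) {y : ι → F} (hy : y ∈ Rad M v hv.Qv) :
    ∃ s : F, cmp D c y = s • cmp D c v := by
  classical
  obtain ⟨z, hzdef⟩ : ∃ z, z = cmp D c v := ⟨_, rfl⟩
  rw [← hzdef] at hQ ⊢
  have hz : z ∈ D c := by rw [hzdef]; exact CMP1.mem hD c v
  have hyc : cmp D c y ∈ D c := CMP1.mem hD c y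
  have hzz : B (Q) z z = 0 := by
    show QuadraticMap.polar _ z z = 0
    rw [QuadraticMap.polar_self, two_smul]
    have : Q z + Q z = 2 * Q z := by ring
    rw [this, h2, zero_mul]
  have hz0 : z ≠ 0 := by
    rintro rfl
    apply hQ
    simp
  have hzv : B (Q) z v = 0 := by
    rw [← CMP2.B_left hD hz v, ← hzdef]; exact hzz
  -- Step 1
  have step1 : ∀ u' ∈ D c, Q u' = 0 → B (Q) z u' = 0 → B (Q) u' y = 0 := by
    intro u' hu' hQu' hzu'
    by_cases hu'0 : u' = 0
    · rw [hu'0]; simp [B]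
    have hu'z : B (Q) u' z = 0 := by rw [B_comm]; exact hzu'
    have hu'v : B (Q) u' v = 0 := by
      rw [← CMP2.B_left hD hu' v, ← hzdef]; exact hu'z
    have h1 := (PM.main h2 hl hD hHM hG1 hv hu' hz hu'0 hQu' hu'z hu'v hzv hy).1
    rcases mul_eq_zero.mp h1 with h | h
    · exact absurd h hQ
    · exact h
  -- a singular vector `e ≠ 0` of `U`
  have h3 : 3 ≤ Module.finrank F (perpIn (Q) (D c) {z}) := by
    have hfin := finrank_perpIn (Q) (QHyp.nd (Q := Q)) (D c) ({z} : Finset (ι → F))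
    have hcoe : (({z} : Finset (ι → F)) : Set (ι → F)) = {z} := by simp
    rw [hcoe] at hfin
    have h4 := hD.rank c
    have hc : ({z} : Finset (ι → F)).card = 1 := Finset.card_singleton z
    omega
  obtain ⟨e, heU, he0, hQe⟩ := exists_singular_in (Q) (perpIn (Q) (D c) {z}) h3
  rw [mem_perpIn] at heU
  have he : e ∈ D c := heU.1
  have hze : B (Q) z e = 0 := heU.2 _ rfl
  have hey : B (Q) e y = 0 := step1 e he hQe hze
  -- `x' ∈ U` with `B(e, x') ≠ 0`
  obtain ⟨x', hx', hzx', hex'⟩ : ∃ x' ∈ D c, B (Q) z x' = 0 ∧ B (Q) e x' ≠ 0 := by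
    by_contra hcon
    push Not at hcon
    obtain ⟨s, hs⟩ := LOCB2.perp_perp2 (D c) (BLK.ndon hD c) hz hz0 hzz he
      (fun w hw hzw => by rw [B_comm]; exact hcon w hw hzw)
    have : Q e = s * s * Q z := by rw [hs, Q_smul]
    rw [hQe] at this
    have hs0 : s = 0 := by
      rcases mul_eq_zero.mp this.symm with h | h
      · rcases mul_eq_zero.mp h with h' | h' <;> exact h'
      · exact absurd h hQ
    apply he0
    rw [hs, hs0, zero_smul]
  -- the key: `x ∈ U`, `B(e,x) ≠ 0 ⟹ B(x,y) = 0`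
  have key : ∀ x ∈ D c, B (Q) z x = 0 → B (Q) e x ≠ 0 → B (Q) x y = 0 := by
    intro x hx hzx hex
    obtain ⟨r, hr⟩ : ∃ r : F, r = -(Q x / B (Q) e x) := ⟨_, rfl⟩
    have hx1 : x + r • e ∈ D c := (D c).add_mem hx ((D c).smul_mem _ he)
    have hQx1 : Q (x + r • e) = 0 := by
      rw [LOCB2.Q_add_smul, hQe, B_comm (Q) x e, hr]
      field_simp
      ring
    have hzx1 : B (Q) z (x + r • e) = 0 := by
      rw [LOCB2.B_add_smul_right, hzx, hze]; ring
    have h5 := step1 _ hx1 hQx1 hzx1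
    rw [LOCB2.B_add_smul_left, hey] at h5
    linear_combination h5
  -- Step 2
  have step2 : ∀ x ∈ D c, B (Q) z x = 0 → B (Q) x (cmp D c y) = 0 := by
    intro x hx hzx
    rw [CMP2.B_left hD hx y]
    have hx'y : B (Q) x' y = 0 := key x' hx' hzx' hex'
    by_cases hex : B (Q) e x = 0
    · have h6 : B (Q) (x + (1 : F) • x') y = 0 := by
        apply key _ ((D c).add_mem hx ((D c).smul_mem _ hx'))
        · rw [LOCB2.B_add_smul_right, hzx, hzx']; ring
        · rw [LOCB2.B_add_smul_right, hex, zero_add, one_mul]; exact hex'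
      rw [LOCB2.B_add_smul_left, hx'y] at h6
      linear_combination h6
    · exact key x hx hzx hex
  exact LOCB2.perp_perp2 (D c) (BLK.ndon hD c) hz hz0 hzz hyc step2

end Cfsg.Agent.OC2E
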