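import Cfsg.Agent.Helper29.OC2E.Defs
import Cfsg.Agent.Helper29.OC2E.LOCA
import Cfsg.Agent.Helper29.OC2E.LOCB1
import Cfsg.Agent.Helper29.OC2E.LOCB2
import Cfsg.Agent.Helper29.OC2E.CMP1

/-! S5677 piece LOC (helper21): every `y ∈ P = Rad M v` has `y_c ∈ F v_c` - assembly of the cases. -/

set_option autoImplicit false
set_option linter.unusedSectionVars false
set_option linter.unusedVariables false

namespace Cfsg.Agent.OC2E

open Matrix Cfsg.Agent.Helper28.Sg Cfsg.Agent.Helper28.Spin Cfsg.Agent.Helper12.OrthGen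
  Cfsg.Agent.S2614 Cfsg.Agent.S5683P Cfsg.Agent.Helper28.NDM

variable {F : Type*} [Field F] {t k : ℕ} {ι : Type} [Fintype ι] [DecidableEq ι] {Q : QuadraticForm F (ι → F)} [QHyp Q] {D : Fin t → Submodule F (ι → F)}
  {M : Subgroup (OGq Q)}


theorem LOC.loc [Fintype F] (h2 : (2 : F) = 0) (hl : ∃ l : F, l ≠ 0 ∧ l ≠ 1) (hD : HD Q k D)
    (hex : ¬ (Fintype.card F = 3 ∧ k = 3)) (hHM : HS D ≤ M) (hG1 : ¬ G1 M D) {v : ι → F}
    (hv : NPV M D v) (c : Fin t) {y : ι → F} (hy : y ∈ Rad M v hv.Qv) :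
    ∃ s : F, cmp D c y = s • cmp D c v := by
  by_cases hvc : cmp D c v = 0
  · refine ⟨0, ?_⟩
    rw [zero_smul]
    exact LOCA.loc h2 hl hD hHM hG1 hv hvc hy
  by_cases hQ : Q (cmp D c v) = 0
  · exact LOCB1.loc h2 hl hD hHM hG1 hv hvc hQ hy
  exact LOCB2.loc h2 hl hD hHM hG1 hD.k4 hv hQ hy

end Cfsg.Agent.OC2E
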