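import Cfsg.Agent.Helper29.OC2E.Defs
import Cfsg.Agent.Helper29.OC2E.CMP1
import Cfsg.Agent.Helper29.OC2E.CMP2
import Cfsg.Agent.Helper29.OC2E.GEOA
import Cfsg.Agent.Helper29.OC2E.GEOB
import Cfsg.Agent.Helper29.OC2E.BLK
import Cfsg.Agent.Helper29.OC2E.SIEGMEM
import Cfsg.Agent.Helper29.OC2E.RADT
import Cfsg.Agent.Helper29.OC2E.LOC

set_option autoImplicit false
set_option linter.unusedSectionVars false
set_option linter.unusedVariables false

/-! # OC2E (S5677 route ported to a general form, characteristic 2) piece FIN: the final contradiction of chapter C3 -/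

namespace Cfsg.Agent.OC2E

open Matrix Cfsg.Agent.Helper28.Sg Cfsg.Agent.Helper28.Spin Cfsg.Agent.Helper12.OrthGen
  Cfsg.Agent.S2614 Cfsg.Agent.S5683P Cfsg.Agent.Helper28.NDM

variable {F : Type*} [Field F] {t k : ℕ} {ι : Type} [Fintype ι] [DecidableEq ι] {Q : QuadraticForm F (ι → F)} [QHyp Q] {D : Fin t → Submodule F (ι → F)}
  {M : Subgroup (OGq Q)}

namespace FIN

theorem B_add_r (x y z : ι → F) :
    B (Q) x (y + z) = B (Q) x y + B (Q) x z :=
  QuadraticMap.polar_add_right _ _ _ _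

theorem B_sub_r (x y z : ι → F) :
    B (Q) x (y - z) = B (Q) x y - B (Q) x z :=
  QuadraticMap.polar_sub_right _ _ _ _

theorem B_smul_r (x y : ι → F) (s : F) :
    B (Q) x (s • y) = s * B (Q) x y := by
  show QuadraticMap.polar _ x (s • y) = _
  rw [QuadraticMap.polar_smul_right]; rfl

theorem B_smul_l (x y : ι → F) (s : F) :
    B (Q) (s • x) y = s * B (Q) x y := by
  show QuadraticMap.polar _ (s • x) y = _
  rw [QuadraticMap.polar_smul_left]; rfl

theorem B_zero_l (y : ι → F) : B (Q) 0 y = 0 :=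
  QuadraticMap.polar_zero_left _ _

/-- an element of `F` (`|F| ≥ 3`) other than `0` and a given `s₀` -/
theorem exists_ne (hl : ∃ l : F, l ≠ 0 ∧ l ≠ 1) (s₀ : F) : ∃ s : F, s ≠ 0 ∧ s ≠ s₀ := by
  obtain ⟨l, hl0, hl1⟩ := hl
  by_cases h : (1 : F) = s₀
  · exact ⟨l, hl0, by rw [← h]; exact hl1⟩
  · exact ⟨1, one_ne_zero, h⟩

end FIN

open FIN in
theorem FIN.false [Fintype F] (h2 : (2 : F) = 0) (hl : ∃ l : F, l ≠ 0 ∧ l ≠ 1) (hD : HD Q k D)
    (hex : ¬ (Fintype.card F = 3 ∧ k = 3)) (hHM : HS D ≤ M) (hG1 : ¬ G1 M D) {v : ι → F}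
    (hv : NPV M D v) : False := by
  classical
  obtain ⟨b₁, c, hb₁c, hvb₁, hvc⟩ := CMP1.exists_two hD hv.np
  -- a singular `u ∈ D c` with `a := B(u, v_c) ≠ 0`
  obtain ⟨u, huc, hQu, hua⟩ :=
    GEOA.sing_nonorth (D c) (BLK.ndon hD c) (BLK.three hD c) (CMP1.mem hD c v) hvc
  set a : F := B (Q) u (cmp D c v) with ha
  have hu0 : u ≠ 0 := by
    rintro rfl
    exact hua (B_zero_l _)
  have huv : B (Q) u v = a := (CMP2.B_left hD huc v).symm
  -- a nonsingular `y ∈ P`, and LOC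
  obtain ⟨y, hyP, hQy⟩ := RADV.exists_nonsing h2 hD hHM hG1 hv
  obtain ⟨sc, hsc⟩ := LOC.loc h2 hl hD hex hHM hG1 hv c hyP
  obtain ⟨sb, hsb⟩ := LOC.loc h2 hl hD hex hHM hG1 hv b₁ hyP
  obtain ⟨s, hs0, hss₀⟩ := exists_ne hl ((sb - sc) / Q y)
  have hsyP : s • y ∈ Rad M v hv.Qv := RADV.smul hD hHM hG1 hv hyP s
  obtain ⟨hvsy, hρM⟩ := hsyP
  set ρ := siegO (Q) v (s • y) hv.Qv hvsy with hρ
  set κ : F := s ^ 2 * Q y with hκ
  have hκ0 : κ ≠ 0 := mul_ne_zero (pow_ne_zero 2 hs0) hQy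
  -- the action of `ρ` on `D c`
  have key : ∀ x ∈ D c, mt (Q) ρ *ᵥ x =
      x + B (Q) v x • (s • y - (s * sc + κ) • v) := by
    intro x hx
    rw [hρ, siegO_mulVec, B_smul_l, Q_smul]
    have h1 : B (Q) y x = sc * B (Q) v x := by
      rw [← CMP2.B_right hD hx y, hsc, B_smul_l, CMP2.B_right hD hx v]
    rw [h1, hκ]
    module
  have keyc : ∀ x ∈ D c, cmp D c (mt (Q) ρ *ᵥ x) =
      x - (B (Q) v x * κ) • cmp D c v := by
    intro x hx
    rw [key x hx, map_add, map_smul, map_sub, map_smul, map_smul, hsc, CMP1.of_mem hD hx]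
    module
  have keyb : cmp D b₁ (mt (Q) ρ *ᵥ u) =
      (a * s * (sb - sc - s * Q y)) • cmp D b₁ v := by
    rw [key u huc, map_add, map_smul, map_sub, map_smul, map_smul, hsb,
      CMP1.of_mem_ne hD (Ne.symm hb₁c) huc, B_comm, huv, hκ]
    module
  have hvu : B (Q) v u = a := by rw [B_comm]; exact huv
  -- the new non-pure vector
  set v'' : ι → F := mt (Q) ρ *ᵥ u with hv''
  have hv''c : cmp D c v'' = u - (a * κ) • cmp D c v := by
    rw [hv'', keyc u huc, hvu]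
  have hBu : B (Q) u (cmp D c v'') = - (a * κ * a) := by
    rw [hv''c, B_sub_r, B_smul_r, B_self_of_singular _ hQu, ← ha]; ring
  have hv''c0 : cmp D c v'' ≠ 0 := by
    intro h0
    rw [h0] at hBu
    have h00 : B (Q) u (0 : ι → F) = 0 := QuadraticMap.polar_zero_right _ _
    rw [h00] at hBu
    have : a * κ * a = 0 := by linear_combination hBu
    exact mul_ne_zero (mul_ne_zero hua hκ0) hua this
  have hv''b0 : cmp D b₁ v'' ≠ 0 := by
    rw [hv'', keyb]
    refine smul_ne_zero (mul_ne_zero (mul_ne_zero hua hs0) ?_) hvb₁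
    intro h0
    apply hss₀
    rw [eq_div_iff hQy]
    linear_combination -h0
  have hnp : ¬ Pure D v'' := CMP1.not_pure hD hb₁c hv''b0 hv''c0
  have hNPV : NPV M D v'' :=
    ⟨by rw [hv'', Q_isom]; exact hQu, hnp, ρ, hρM, c, u, huc, hu0, hQu, rfl⟩
  -- a nonsingular `w ∈ Tu Q D c u`
  obtain ⟨w, hwc, huw, hQw⟩ :=
    GEOB.nonsing_perp h2 (D c) (BLK.ndon hD c) (BLK.three hD c) huc hu0 hQu
  have hwRad : w ∈ Rad M u hQu := SIEGMEM.Tu_le hD hHM huc hQu ⟨hwc, huw⟩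
  have hρw : mt (Q) ρ *ᵥ w ∈ Rad M v'' hNPV.Qv := Rad_conj' hρM hwRad hNPV.Qv rfl rfl
  obtain ⟨l, hl⟩ := LOC.loc h2 hl hD hex hHM hG1 hNPV c hρw
  rw [keyc w hwc, hv''c] at hl
  set a' : F := B (Q) v w with ha'
  -- apply `B(u, ·)`
  have h1 := congrArg (fun x => B (Q) u x) hl
  beta_reduce at h1
  rw [B_sub_r, B_smul_r, B_smul_r, B_sub_r, B_smul_r, huw, B_self_of_singular _ hQu, ← ha] at h1
  have h3 : a' = l * a := by
    have : (a' - l * a) * (κ * a) = 0 := by linear_combination -h1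
    have := (mul_eq_zero.mp this).resolve_right (mul_ne_zero hκ0 hua)
    linear_combination this
  have hwl : w = l • u := by
    have : w = l • (u - (a * κ) • cmp D c v) + (a' * κ) • cmp D c v := by
      rw [← hl]; abel
    rw [this, h3]; module
  apply hQw
  rw [hwl, Q_smul, hQu, mul_zero]

end Cfsg.Agent.OC2E
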