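import Cfsg.Agent.Helper29.OC2E.Defs
import Cfsg.Agent.Helper29.OC2E.Defs2
import Cfsg.Agent.Helper29.OC2E.CMP1
import Cfsg.Agent.Helper29.OC2E.CMP2
import Cfsg.Agent.Helper29.OC2E.SIEGMEM

/-! # OC2E (S5677 route ported to a general form, characteristic 2) piece FULLRAD (helper25): all blocks linked `⟹ Rad M u = u^⊥` for pure singular `u`. -/

set_option autoImplicit false
set_option linter.unusedSectionVars false
set_option linter.unusedVariables false

namespace Cfsg.Agent.OC2E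

open Matrix Cfsg.Agent.Helper28.Sg Cfsg.Agent.Helper28.Spin Cfsg.Agent.Helper12.OrthGen
  Cfsg.Agent.S2614 Cfsg.Agent.S5683P Cfsg.Agent.Helper28.NDM

variable {F : Type*} [Field F] [Fintype F] {t k : ℕ} {ι : Type} [Fintype ι] [DecidableEq ι] {Q : QuadraticForm F (ι → F)} [QHyp Q] {D : Fin t → Submodule F (ι → F)}
  {M : Subgroup (OGq Q)}

namespace FULLRAD

theorem lsub_le_rad {u : ι → F} (hQu : Q u = 0) {w : ι → F}
    (hw : w ∈ Lsub M u hQu) : w ∈ Rad M u hQu := by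
  obtain ⟨h1, h2⟩ := hw
  have h1' : B (Q) u ((1 : F) • w) = 0 := by rw [one_smul]; exact h1
  refine ⟨h1, ?_⟩
  rw [siegO_congr (Q) hQu h1 hQu h1' rfl (one_smul F w).symm]
  exact h2 1 h1'

end FULLRAD

theorem FULLRAD.mem (hD : HD Q k D) (hHM : HS D ≤ M) (hL : ∀ x y : Fin t, x ≠ y → Link M D x y)
    {c : Fin t} {u : ι → F} (hu : u ∈ D c) (hu0 : u ≠ 0) (hQu : Q u = 0)
    {w : ι → F} (hw : B (Q) u w = 0) : w ∈ Rad M u hQu := by
  have h1 : cmp D c w ∈ Rad M u hQu := by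
    apply SIEGMEM.Tu_le hD hHM hu hQu
    rw [mem_Tu]
    exact ⟨CMP1.mem hD c w, by rw [CMP2.B_left hD hu w]; exact hw⟩
  have hle : Oth D c ≤ Lsub M u hQu := by
    unfold Oth
    apply iSup_le
    intro b
    exact hL c b.1 (Ne.symm b.2) u hu hu0 hQu
  have h2 : w - cmp D c w ∈ Rad M u hQu :=
    FULLRAD.lsub_le_rad hQu (hle (CMP1.sub_mem hD c w))
  have := (Rad M u hQu).add_mem h1 h2
  rwa [add_sub_cancel] at this
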