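import Cfsg.Agent.Helper29.OC2E.Defs
import Cfsg.Agent.Helper29.OC2E.Defs2
import Cfsg.Agent.Helper29.OC2E.CMP1
import Cfsg.Agent.Helper29.OC2E.CMP2
import Cfsg.Agent.Helper29.OC2E.SIEGMEM
import Cfsg.Agent.Helper29.OC2E.GEOA
import Cfsg.Agent.Helper29.OC2E.BLK
import Cfsg.Agent.Helper29.OC2E.SPREAD1
import Cfsg.Agent.Helper29.OC2E.SPREAD

set_option autoImplicit false
set_option linter.unusedSectionVars false
set_option linter.unusedVariables false

/-! # S5677, piece SEED: from `G1` to one block inside some `Lsub M u`. -/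

namespace Cfsg.Agent.OC2E

open Matrix Cfsg.Agent.Helper28.Sg Cfsg.Agent.Helper28.Spin Cfsg.Agent.Helper12.OrthGen
  Cfsg.Agent.S2614 Cfsg.Agent.S5683P Cfsg.Agent.Helper28.NDM

variable {F : Type*} [Field F] [Fintype F] {t k : ℕ} {ι : Type} [Fintype ι] [DecidableEq ι] {Q : QuadraticForm F (ι → F)} [QHyp Q] {D : Fin t → Submodule F (ι → F)}
  {M : Subgroup (OGq Q)}

/-- from `G1`: `d' := d - cmp D c d ∈ Rad M u` (as `cmp D c d ∈ Tu Q D c u`), `d' ≠ 0` has a non-zero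
component `d'_b`, `b ≠ c`; GEOA.sing_nonorth gives a singular `e' ∈ D b` with `B(e', d') ≠ 0`;
SPREAD1.mem, SPREAD.le -/
theorem SEED.exists (h2 : (2 : F) = 0) (hD : HD Q k D) (hHM : HS D ≤ M) (hG1 : G1 M D) :
    ∃ (c b : Fin t) (u : ι → F) (hQu : Q u = 0), c ≠ b ∧ u ∈ D c ∧ u ≠ 0 ∧
      D b ≤ Lsub M u hQu := by
  obtain ⟨c, u, hQu, hu, hu0, d, hd, hdc⟩ := hG1
  have hud : B (Q) u d = 0 := Rad_perp hd
  -- the `c`-component of `d` lies in `Rad M u`
  have hdc1 : cmp D c d ∈ Tu Q D c u := by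
    rw [mem_Tu]
    exact ⟨CMP1.mem hD c d, by rw [CMP2.B_left hD hu d]; exact hud⟩
  have hdc2 : cmp D c d ∈ Rad M u hQu := SIEGMEM.Tu_le hD hHM hu hQu hdc1
  have hd' : d - cmp D c d ∈ Rad M u hQu := (Rad M u hQu).sub_mem hd hdc2
  have hd'0 : d - cmp D c d ≠ 0 := by
    intro h0
    apply hdc
    rw [sub_eq_zero] at h0
    rw [h0]
    exact CMP1.mem hD c d
  have hc0 : cmp D c (d - cmp D c d) = 0 := by
    rw [map_sub, CMP1.of_mem hD (CMP1.mem hD c d), sub_self]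
  -- a non-zero component in another block
  obtain ⟨b, hb⟩ : ∃ b, cmp D b (d - cmp D c d) ≠ 0 := by
    by_contra hno
    push Not at hno
    apply hd'0
    apply CMP1.ext hD
    intro b
    rw [hno b, map_zero]
  have hcb : c ≠ b := by
    rintro rfl
    exact hb hc0
  obtain ⟨e', he', hQe', hne⟩ := GEOA.sing_nonorth (D b) (BLK.ndon hD b) (BLK.three hD b)
    (CMP1.mem hD b (d - cmp D c d)) hb
  rw [CMP2.B_left hD he'] at hne
  have he'0 : e' ≠ 0 := by
    rintro rfl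
    apply hne
    simp [B]
  have hmem : e' ∈ Lsub M u hQu :=
    SPREAD1.mem h2 hD hHM hcb hu hQu he' he'0 hQe' hd' hne
  exact ⟨c, b, u, hQu, hcb, hu, hu0, SPREAD.le h2 hD hHM hcb hu hQu he' he'0 hQe' hmem⟩

end Cfsg.Agent.OC2E
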