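import Cfsg.Agent.Helper29.OC2E.Defs2
import Cfsg.Agent.Helper29.OC2E.LINKS
import Cfsg.Agent.Helper29.OC2E.SEED
import Cfsg.Agent.Helper29.OC2E.SWAP
import Cfsg.Agent.Helper29.OC2E.CYC3
import Cfsg.Agent.Helper29.OC2E.ALLLINK
import Cfsg.Agent.Helper29.OC2E.LOCB1
import Cfsg.Agent.Helper29.OC2E.LOCB2
import Cfsg.Agent.Helper29.OC2E.RADT
import Cfsg.Agent.Helper29.OC2E.BLK
import Cfsg.Agent.Helper29.OC2E.BRIDGEHD
import Cfsg.Agent.Helper29.OC2E.PROPER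
import Cfsg.Agent.Helper29.OC2E.STEP0
import Cfsg.Agent.Helper29.OC2E.CMP1
import Cfsg.Agent.Helper29.OC2E.CMP2
import Cfsg.Agent.Helper29.OC2E.LOC
import Cfsg.Agent.Helper29.OC2E.SPREAD
import Cfsg.Agent.Helper29.OC2E.GEOA
import Cfsg.Agent.Helper29.OC2E.SPREAD1
import Cfsg.Agent.Helper29.OC2E.STAB
import Cfsg.Agent.Helper29.OC2E.REFLMEM
import Cfsg.Agent.Helper29.OC2E.SIEGMEM
import Cfsg.Agent.Helper29.OC2E.GEOB
import Cfsg.Agent.Helper29.OC2E.GEOC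
import Cfsg.Agent.Helper29.OC2E.LSUB
import Cfsg.Agent.Helper29.OC2E.FULLRAD
import Cfsg.Agent.Helper29.OC2E.LINKCONJ
import Cfsg.Agent.Helper29.OC2E.LOCA
import Cfsg.Agent.Helper29.OC2E.PM
import Cfsg.Agent.Helper29.OC2E.FIN
import Cfsg.Agent.Helper29.OC2E.GP

/-! # S5677: import hub of the 47 pieces (board `s5677pieces`) -/
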